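import Groth.Prelude.Def_KZero
import Mathlib.Algebra.Homology.ShortComplex.Abelian
import Mathlib.Algebra.Homology.ShortComplex.ShortExact
import Mathlib.CategoryTheory.Abelian.Exact

/-!
Elementary calculus in `KZero.K0`, `KZero.K0sub` and `KZero.K0tr`.
-/

set_option autoImplicit false

universe v u w

open CategoryTheory CategoryTheory.Limits CategoryTheory.Pretriangulated

namespace Groth.Agent.K0Cat

section Abelian

variable {A : Type u} [Category.{v} A] [Abelian A]

theorem cl_ses (S : ShortComplex A) (hS : S.ShortExact) :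
    KZero.cl S.X₂ = KZero.cl S.X₁ + KZero.cl S.X₃ := by
  have hmem : FreeAbelianGroup.of S.X₂ - FreeAbelianGroup.of S.X₁ - FreeAbelianGroup.of S.X₃ ∈
      KZero.relAb A := AddSubgroup.subset_closure ⟨S, hS, rfl⟩
  have := (QuotientAddGroup.eq_zero_iff _).2 hmem
  rw [QuotientAddGroup.mk_sub, QuotientAddGroup.mk_sub, sub_sub, sub_eq_zero] at this
  exact this

theorem shortExact_id_zero {X Z : A} (hZ : IsZero Z) :
    (ShortComplex.mk (𝟙 X) (0 : X ⟶ Z) comp_zero).ShortExact := by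
  have : Epi (0 : X ⟶ Z) := ⟨fun g h _ => hZ.eq_of_src g h⟩
  exact { exact := ShortComplex.exact_of_f_is_kernel _
            (KernelFork.IsLimit.ofId (0 : X ⟶ Z) rfl) }

theorem cl_of_isZero {Z : A} (hZ : IsZero Z) : KZero.cl Z = 0 := by
  have := cl_ses _ (shortExact_id_zero (X := Z) hZ)
  exact left_eq_add.mp this

theorem cl_iso {X Y : A} (e : X ≅ Y) : KZero.cl X = KZero.cl Y := by
  have hZ : IsZero (cokernel (𝟙 X)) := isZero_cokernel_of_epi _
  have h : (ShortComplex.mk e.hom (0 : Y ⟶ cokernel (𝟙 X)) comp_zero).ShortExact :=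
    ShortComplex.shortExact_of_iso
      (ShortComplex.isoMk (S₁ := ShortComplex.mk (𝟙 X) (0 : X ⟶ cokernel (𝟙 X)) comp_zero)
        (Iso.refl _) e (Iso.refl _) (by simp) (by simp))
      (shortExact_id_zero hZ)
  have := cl_ses _ h
  simpa [cl_of_isZero hZ] using this.symm

/-- The class of the image of a morphism. -/
noncomputable def imCl {X Y : A} (f : X ⟶ Y) : KZero.K0 A := KZero.cl (Abelian.image f)

theorem imCl_eq_zero {X Y : A} {f : X ⟶ Y} (h : IsZero X ∨ IsZero Y) : imCl f = 0 := by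
  refine cl_of_isZero ?_
  rcases h with h | h
  · exact IsZero.of_epi (Abelian.factorThruImage f) h
  · exact IsZero.of_mono (Abelian.image.ι f) h

theorem shortExact_kernel_image {X Y : A} (f : X ⟶ Y) :
    (ShortComplex.mk (kernel.ι f) (Abelian.factorThruImage f)
      (by rw [← cancel_mono (Abelian.image.ι f)]; simp)).ShortExact where
  exact := ShortComplex.exact_of_f_is_kernel _
    (isKernelOfComp (f := Abelian.factorThruImage f) (Abelian.image.ι f) f (kernelIsKernel f)
      (by rw [← cancel_mono (Abelian.image.ι f)]; simp) (Abelian.image.fac f))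

theorem cl_eq_ker_add_imCl {X Y : A} (f : X ⟶ Y) : KZero.cl X = KZero.cl (kernel f) + imCl f :=
  cl_ses _ (shortExact_kernel_image f)

theorem cl_eq_of_exact (S : ShortComplex A) (hS : S.Exact) :
    KZero.cl S.X₂ = imCl S.f + imCl S.g := by
  let e : Abelian.image S.f ≅ kernel S.g :=
    { hom := S.abelianImageToKernel
      inv := kernel.lift _ (kernel.ι S.g) (S.exact_iff_kernel_ι_comp_cokernel_π_zero.1 hS)
      hom_inv_id := by
        rw [← cancel_mono (Abelian.image.ι S.f), Category.assoc, kernel.lift_ι]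
        simp
      inv_hom_id := by
        rw [← cancel_mono (kernel.ι S.g), Category.assoc,
          ShortComplex.abelianImageToKernel_comp_kernel_ι, Category.id_comp]
        exact kernel.lift_ι _ _ _ }
  rw [cl_eq_ker_add_imCl S.g, imCl, imCl, cl_iso e]

/-- Induced homomorphism on `K₀`. -/
def lift {G : Type w} [AddCommGroup G] (h : A → G)
    (hadd : ∀ S : ShortComplex A, S.ShortExact → h S.X₂ = h S.X₁ + h S.X₃) : KZero.K0 A →+ G :=
  QuotientAddGroup.lift (KZero.relAb A) (FreeAbelianGroup.lift h) (by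
    rw [KZero.relAb, AddSubgroup.closure_le]
    rintro x ⟨S, hS, rfl⟩
    simp [hadd S hS])

@[simp] theorem lift_cl {G : Type w} [AddCommGroup G] (h : A → G)
    (hadd : ∀ S : ShortComplex A, S.ShortExact → h S.X₂ = h S.X₁ + h S.X₃) (X : A) :
    lift h hadd (KZero.cl X) = h X := by
  simp [lift, KZero.cl]

theorem cl_induction {p : KZero.K0 A → Prop} (x : KZero.K0 A) (h0 : p 0)
    (hcl : ∀ X, p (KZero.cl X)) (hneg : ∀ a, p a → p (-a)) (hadd : ∀ a b, p a → p b → p (a + b)) :
    p x := by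
  induction x using QuotientAddGroup.induction_on with
  | H z =>
    induction z using FreeAbelianGroup.induction_on with
    | zero => exact h0
    | of X => exact hcl X
    | neg X h => exact hneg _ h
    | add a b ha hb => exact hadd _ _ ha hb

end Abelian

section Sub

variable {A : Type u} [Category.{v} A] [Abelian A] {P : ObjectProperty A}

theorem clSub_of_prop {X : A} (h : P X) :
    KZero.clSub P X = QuotientAddGroup.mk (FreeAbelianGroup.of ⟨X, h⟩) := dif_pos h

theorem clSub_ses (S : ShortComplex A) (hS : S.ShortExact) (h₁ : P S.X₁) (h₂ : P S.X₂)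
    (h₃ : P S.X₃) : KZero.clSub P S.X₂ = KZero.clSub P S.X₁ + KZero.clSub P S.X₃ := by
  have hmem : FreeAbelianGroup.of (⟨S.X₂, h₂⟩ : Subtype P) - FreeAbelianGroup.of ⟨S.X₁, h₁⟩ -
      FreeAbelianGroup.of ⟨S.X₃, h₃⟩ ∈ KZero.relSub P :=
    AddSubgroup.subset_closure ⟨S, h₁, h₂, h₃, hS, rfl⟩
  have := (QuotientAddGroup.eq_zero_iff _).2 hmem
  rw [QuotientAddGroup.mk_sub, QuotientAddGroup.mk_sub, sub_sub, sub_eq_zero] at this
  rw [clSub_of_prop h₁, clSub_of_prop h₂, clSub_of_prop h₃]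
  exact this

theorem clSub_of_isZero {Z : A} (hZ : IsZero Z) (hP : P Z) : KZero.clSub P Z = 0 := by
  have := clSub_ses _ (shortExact_id_zero (X := Z) hZ) hP hP hP
  exact left_eq_add.mp this

/-- Induced homomorphism on `K0sub`. -/
def liftSub {G : Type w} [AddCommGroup G] (h : Subtype P → G)
    (hadd : ∀ (S : ShortComplex A) (h₁ : P S.X₁) (h₂ : P S.X₂) (h₃ : P S.X₃), S.ShortExact →
      h ⟨S.X₂, h₂⟩ = h ⟨S.X₁, h₁⟩ + h ⟨S.X₃, h₃⟩) : KZero.K0sub P →+ G :=
  QuotientAddGroup.lift (KZero.relSub P) (FreeAbelianGroup.lift h) (by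
    rw [KZero.relSub, AddSubgroup.closure_le]
    rintro x ⟨S, h₁, h₂, h₃, hS, rfl⟩
    simp [hadd S h₁ h₂ h₃ hS])

theorem liftSub_clSub {G : Type w} [AddCommGroup G] (h : Subtype P → G)
    (hadd : ∀ (S : ShortComplex A) (h₁ : P S.X₁) (h₂ : P S.X₂) (h₃ : P S.X₃), S.ShortExact →
      h ⟨S.X₂, h₂⟩ = h ⟨S.X₁, h₁⟩ + h ⟨S.X₃, h₃⟩) {X : A} (hX : P X) :
    liftSub h hadd (KZero.clSub P X) = h ⟨X, hX⟩ := by
  simp [liftSub, clSub_of_prop hX]

theorem clSub_induction {p : KZero.K0sub P → Prop} (x : KZero.K0sub P) (h0 : p 0)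
    (hcl : ∀ X, P X → p (KZero.clSub P X)) (hneg : ∀ a, p a → p (-a))
    (hadd : ∀ a b, p a → p b → p (a + b)) : p x := by
  induction x using QuotientAddGroup.induction_on with
  | H z =>
    induction z using FreeAbelianGroup.induction_on with
    | zero => exact h0
    | of X =>
      have := hcl X.1 X.2
      rwa [clSub_of_prop X.2] at this
    | neg X h => exact hneg _ h
    | add a b ha hb => exact hadd _ _ ha hb

end Sub

section Triangulated

variable {D : Type u} [Category.{v} D] [Preadditive D] [HasZeroObject D] [HasShift D ℤ]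
  [∀ n : ℤ, (shiftFunctor D n).Additive] [Pretriangulated D] {P : ObjectProperty D}

theorem clTr_of_prop {X : D} (h : P X) :
    KZero.clTr P X = QuotientAddGroup.mk (FreeAbelianGroup.of ⟨X, h⟩) := dif_pos h

theorem clTr_tri (T : Triangle D) (hT : T ∈ distinguishedTriangles) (h₁ : P T.obj₁) (h₂ : P T.obj₂)
    (h₃ : P T.obj₃) : KZero.clTr P T.obj₂ = KZero.clTr P T.obj₁ + KZero.clTr P T.obj₃ := by
  have hmem : FreeAbelianGroup.of (⟨T.obj₂, h₂⟩ : Subtype P) - FreeAbelianGroup.of ⟨T.obj₁, h₁⟩ -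
      FreeAbelianGroup.of ⟨T.obj₃, h₃⟩ ∈ KZero.relTr P :=
    AddSubgroup.subset_closure ⟨T, h₁, h₂, h₃, hT, rfl⟩
  have := (QuotientAddGroup.eq_zero_iff _).2 hmem
  rw [QuotientAddGroup.mk_sub, QuotientAddGroup.mk_sub, sub_sub, sub_eq_zero] at this
  rw [clTr_of_prop h₁, clTr_of_prop h₂, clTr_of_prop h₃]
  exact this

theorem clTr_of_isZero {Z : D} (hZ : IsZero Z) (hP : P Z) : KZero.clTr P Z = 0 := by
  have hT : Triangle.mk (𝟙 Z) (0 : Z ⟶ Z) 0 ∈ distinguishedTriangles :=
    isomorphic_distinguished _ (contractible_distinguished Z) _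
      (Triangle.isoMk _ _ (Iso.refl _) (Iso.refl _) (hZ.iso (isZero_zero _)) rfl
        ((isZero_zero _).eq_of_tgt _ _) (hZ.eq_of_src _ _))
  exact left_eq_add.mp (clTr_tri _ hT hP hP hP)

theorem clTr_iso {X Y Z : D} (e : X ≅ Y) (hZ : IsZero Z) (hX : P X) (hY : P Y) (hPZ : P Z) :
    KZero.clTr P X = KZero.clTr P Y := by
  have hT : Triangle.mk e.hom (0 : Y ⟶ Z) 0 ∈ distinguishedTriangles :=
    isomorphic_distinguished _ (contractible_distinguished X) _
      (Triangle.isoMk _ _ (Iso.refl _) e.symm (hZ.iso (isZero_zero _))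
        (e.hom_inv_id.trans (Category.id_comp _).symm)
        ((isZero_zero _).eq_of_tgt _ _) (hZ.eq_of_src _ _))
  have := clTr_tri _ hT hX hY hPZ
  simpa [clTr_of_isZero hZ hPZ] using this.symm

theorem clTr_shift_one {X Z : D} (hZ : IsZero Z) (hX : P X)
    (hX1 : P ((shiftFunctor D (1 : ℤ)).obj X)) (hPZ : P Z) :
    KZero.clTr P ((shiftFunctor D (1 : ℤ)).obj X) = -KZero.clTr P X := by
  have hT : Triangle.mk (0 : X ⟶ Z) (0 : Z ⟶ (shiftFunctor D (1 : ℤ)).obj X) (-(𝟙 _)) ∈
      distinguishedTriangles :=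
    isomorphic_distinguished _ (rot_of_distTriang _ (contractible_distinguished X)) _
      (Triangle.isoMk _ _ (Iso.refl _) (hZ.iso (isZero_zero _)) (Iso.refl _)
        ((isZero_zero _).eq_of_tgt _ _) (hZ.eq_of_src _ _) (by
          change (-(𝟙 _)) ≫ (shiftFunctor D (1 : ℤ)).map (𝟙 X) = 𝟙 _ ≫ (-(shiftFunctor D (1 : ℤ)).map (𝟙 X))
          rw [CategoryTheory.Functor.map_id]
          simp))
  have := clTr_tri _ hT hX hPZ hX1
  simp only [Triangle.mk_obj₁, Triangle.mk_obj₂, Triangle.mk_obj₃, clTr_of_isZero hZ hPZ] at this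
  exact eq_neg_of_add_eq_zero_right this.symm

/-- Induced homomorphism on `K0tr`. -/
def liftTr {G : Type w} [AddCommGroup G] (h : Subtype P → G)
    (hadd : ∀ (T : Triangle D) (h₁ : P T.obj₁) (h₂ : P T.obj₂) (h₃ : P T.obj₃),
      T ∈ distinguishedTriangles → h ⟨T.obj₂, h₂⟩ = h ⟨T.obj₁, h₁⟩ + h ⟨T.obj₃, h₃⟩) :
    KZero.K0tr P →+ G :=
  QuotientAddGroup.lift (KZero.relTr P) (FreeAbelianGroup.lift h) (by
    rw [KZero.relTr, AddSubgroup.closure_le]
    rintro x ⟨T, h₁, h₂, h₃, hT, rfl⟩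
    simp [hadd T h₁ h₂ h₃ hT])

theorem liftTr_clTr {G : Type w} [AddCommGroup G] (h : Subtype P → G)
    (hadd : ∀ (T : Triangle D) (h₁ : P T.obj₁) (h₂ : P T.obj₂) (h₃ : P T.obj₃),
      T ∈ distinguishedTriangles → h ⟨T.obj₂, h₂⟩ = h ⟨T.obj₁, h₁⟩ + h ⟨T.obj₃, h₃⟩)
    {X : D} (hX : P X) : liftTr h hadd (KZero.clTr P X) = h ⟨X, hX⟩ := by
  simp [liftTr, clTr_of_prop hX]

theorem clTr_induction {p : KZero.K0tr P → Prop} (x : KZero.K0tr P) (h0 : p 0)
    (hcl : ∀ X, P X → p (KZero.clTr P X)) (hneg : ∀ a, p a → p (-a))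
    (hadd : ∀ a b, p a → p b → p (a + b)) : p x := by
  induction x using QuotientAddGroup.induction_on with
  | H z =>
    induction z using FreeAbelianGroup.induction_on with
    | zero => exact h0
    | of X =>
      have := hcl X.1 X.2
      rwa [clTr_of_prop X.2] at this
    | neg X h => exact hneg _ h
    | add a b ha hb => exact hadd _ _ ha hb

end Triangulated

end Groth.Agent.K0Cat
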