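import Groth.Agent.Lib.K0Cat.Basic
import Mathlib.Algebra.Category.ModuleCat.Abelian
import Mathlib.RingTheory.Ideal.AssociatedPrime.Finiteness
import Mathlib.RingTheory.Spectrum.Prime.FreeLocus
import Mathlib.Algebra.Module.LocalizedModule.Exact
import Mathlib.RingTheory.Localization.AtPrime.Basic
import Mathlib.LinearAlgebra.Dimension.Finite
import Mathlib.Algebra.Homology.ShortComplex.ModuleCat

/-!
`K₀` of finitely generated modules over a Noetherian ring.
-/

set_option autoImplicit false

universe u

open CategoryTheory CategoryTheory.Limits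

namespace Groth.Agent.K0Cat

variable (A : Type u) [CommRing A]

/-- The finitely generated modules. -/
abbrev finMods : ObjectProperty (ModuleCat.{u} A) := fun M => Module.Finite A M

variable {A}

theorem clSub_linear {N₁ N₂ N₃ : Type u} [AddCommGroup N₁] [Module A N₁] [Module.Finite A N₁]
    [AddCommGroup N₂] [Module A N₂] [Module.Finite A N₂] [AddCommGroup N₃] [Module A N₃]
    [Module.Finite A N₃] (f : N₁ →ₗ[A] N₂) (g : N₂ →ₗ[A] N₃) (hf : Function.Injective f)
    (hg : Function.Surjective g) (hfg : Function.Exact f g) :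
    KZero.clSub (finMods A) (ModuleCat.of A N₂) =
      KZero.clSub (finMods A) (ModuleCat.of A N₁) + KZero.clSub (finMods A) (ModuleCat.of A N₃) := by
  let S : ShortComplex (ModuleCat.{u} A) := ShortComplex.mk (ModuleCat.ofHom f) (ModuleCat.ofHom g)
    (ModuleCat.hom_ext hfg.linearMap_comp_eq_zero)
  have : Mono S.f := (ModuleCat.mono_iff_injective _).2 hf
  have : Epi S.g := (ModuleCat.epi_iff_surjective _).2 hg
  exact clSub_ses S
    { exact := (ShortComplex.moduleCat_exact_iff S).2 fun x hx => (hfg x).1 hx }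
    (inferInstanceAs (Module.Finite A N₁)) (inferInstanceAs (Module.Finite A N₂))
    (inferInstanceAs (Module.Finite A N₃))

theorem clSub_subsingleton (N : Type u) [AddCommGroup N] [Module A N] [Module.Finite A N]
    [Subsingleton N] : KZero.clSub (finMods A) (ModuleCat.of A N) = 0 :=
  clSub_of_isZero (P := finMods A) (ModuleCat.isZero_of_subsingleton _)
    (inferInstanceAs (Module.Finite A N))

theorem clSub_equiv {N N' : Type u} [AddCommGroup N] [Module A N] [Module.Finite A N]
    [AddCommGroup N'] [Module A N'] [Module.Finite A N'] (e : N ≃ₗ[A] N') :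
    KZero.clSub (finMods A) (ModuleCat.of A N) = KZero.clSub (finMods A) (ModuleCat.of A N') := by
  have := clSub_linear e.toLinearMap (0 : N' →ₗ[A] PUnit.{u + 1}) e.injective
    (Function.surjective_to_subsingleton _) ((e.exact_zero_iff_surjective _).2 e.surjective)
  rw [clSub_subsingleton PUnit, add_zero] at this
  exact this.symm

/-- `K₀` of finite modules is generated by the classes of `A/p`. -/
theorem mem_of_quotient_prime [IsNoetherianRing A] (H : AddSubgroup (KZero.K0sub (finMods A)))
    (hp : ∀ p : PrimeSpectrum A, KZero.clSub (finMods A) (ModuleCat.of A (A ⧸ p.asIdeal)) ∈ H)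
    (x : KZero.K0sub (finMods A)) : x ∈ H := by
  have key : ∀ (M : Type u) [AddCommGroup M] [Module A M] [Module.Finite A M],
      KZero.clSub (finMods A) (ModuleCat.of A M) ∈ H := by
    intro M _ _ hM
    induction hM using IsNoetherianRing.induction_on_isQuotientEquivQuotientPrime A with
    | subsingleton N => rw [clSub_subsingleton N]; exact zero_mem _
    | quotient N p e => rw [clSub_equiv e]; exact hp p
    | exact N₁ N₂ N₃ f g hf hg hfg h₁ h₃ => rw [clSub_linear f g hf hg hfg]; exact add_mem h₁ h₃
  refine clSub_induction (p := fun x => x ∈ H) x (zero_mem _) (fun X hX => ?_)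
    (fun a ha => neg_mem ha) (fun a b ha hb => add_mem ha hb)
  have : Module.Finite A X := hX
  exact key X

theorem isField_localization {P : Ideal A} [P.IsPrime] (hP : ∀ a ∈ P, ∃ s ∉ P, s * a = 0) :
    IsField (Localization.AtPrime P) := by
  rw [IsLocalRing.isField_iff_maximalIdeal_eq, ← Localization.AtPrime.map_eq_maximalIdeal,
    Ideal.map_eq_bot_iff_le_ker]
  intro a ha
  obtain ⟨s, hs, h⟩ := hP a ha
  rw [RingHom.mem_ker, IsLocalization.map_eq_zero_iff P.primeCompl]
  exact ⟨⟨s, hs⟩, h⟩

theorem rankAtStalk_additive {P : PrimeSpectrum A}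
    (hP : ∀ a ∈ P.asIdeal, ∃ s ∉ P.asIdeal, s * a = 0) {N₁ N₂ N₃ : Type u} [AddCommGroup N₁]
    [Module A N₁] [AddCommGroup N₂] [Module A N₂] [Module.Finite A N₂]
    [AddCommGroup N₃] [Module A N₃] (f : N₁ →ₗ[A] N₂) (g : N₂ →ₗ[A] N₃)
    (hf : Function.Injective f) (hg : Function.Surjective g) (hfg : Function.Exact f g) :
    Module.rankAtStalk (R := A) N₂ P =
      Module.rankAtStalk (R := A) N₁ P + Module.rankAtStalk (R := A) N₃ P := by
  letI := (isField_localization hP).toField
  let S := P.asIdeal.primeCompl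
  have h1 := LocalizedModule.map_injective S f hf
  have h2 := LocalizedModule.map_surjective S g hg
  have h3 : Function.Exact (LocalizedModule.map S f) (LocalizedModule.map S g) :=
    LocalizedModule.map_exact S f g hfg
  have := LinearMap.finrank_range_add_finrank_ker (LocalizedModule.map S g)
  rw [LinearMap.range_eq_top.2 h2, finrank_top, LinearMap.exact_iff.1 h3,
    LinearMap.finrank_range_of_inj h1] at this
  rw [Module.rankAtStalk, Module.rankAtStalk, Module.rankAtStalk, ← this, add_comm]

/-- The rank homomorphism at a prime whose localization is a field. -/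
noncomputable def rankHom {P : PrimeSpectrum A}
    (hP : ∀ a ∈ P.asIdeal, ∃ s ∉ P.asIdeal, s * a = 0) : KZero.K0sub (finMods A) →+ ℤ :=
  liftSub (fun M => (Module.rankAtStalk (R := A) M.1 P : ℤ)) fun S h₁ h₂ h₃ hS => by
    have : Module.Finite A S.X₂ := h₂
    exact_mod_cast rankAtStalk_additive hP S.f.hom S.g.hom hS.moduleCat_injective_f
      hS.moduleCat_surjective_g ((ShortComplex.ShortExact.moduleCat_exact_iff_function_exact S).1 hS.exact)

theorem rankAtStalk_quotient_self {P : PrimeSpectrum A}
    (hP : ∀ a ∈ P.asIdeal, ∃ s ∉ P.asIdeal, s * a = 0) :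
    Module.rankAtStalk (R := A) (A ⧸ P.asIdeal) P = 1 := by
  letI := (isField_localization hP).toField
  refine finrank_eq_one (LocalizedModule.mk (Ideal.Quotient.mk P.asIdeal 1) 1) ?_ ?_
  · intro h
    rw [← LocalizedModule.zero_mk (1 : P.asIdeal.primeCompl), LocalizedModule.mk_eq] at h
    obtain ⟨u, hu⟩ := h
    simp only [one_smul, smul_zero] at hu
    change Ideal.Quotient.mk P.asIdeal ((u : A) • 1) = 0 at hu
    rw [Ideal.Quotient.eq_zero_iff_mem, smul_eq_mul, mul_one] at hu
    exact u.2 hu
  · intro w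
    induction w using LocalizedModule.induction_on with
    | h m t =>
      obtain ⟨a, rfl⟩ := Ideal.Quotient.mk_surjective m
      refine ⟨Localization.mk a t, ?_⟩
      refine (LocalizedModule.mk_smul_mk _ _ _ _).trans ?_
      rw [mul_one]
      congr 1
      change Ideal.Quotient.mk P.asIdeal (a • 1) = _
      rw [smul_eq_mul, mul_one]

theorem rankAtStalk_quotient_of_not_le {P : PrimeSpectrum A} {I : Ideal A} {a : A} (haI : a ∈ I)
    (ha : a ∉ P.asIdeal) : Module.rankAtStalk (R := A) (A ⧸ I) P = 0 := by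
  have : Subsingleton (LocalizedModule P.asIdeal.primeCompl (A ⧸ I)) := by
    rw [LocalizedModule.subsingleton_iff]
    intro m
    obtain ⟨b, rfl⟩ := Ideal.Quotient.mk_surjective m
    refine ⟨a, ha, ?_⟩
    change Ideal.Quotient.mk I (a • b) = 0
    rw [Ideal.Quotient.eq_zero_iff_mem, smul_eq_mul]
    exact I.mul_mem_right _ haI
  exact Module.finrank_zero_of_subsingleton

/-- `[A/(I + (g))] = 0` when `g` is a non-zero-divisor on `A/I`. -/
theorem clSub_quotient_sup_span {I J : Ideal A} {g : A}
    (hg : ∀ a, g * a ∈ I → a ∈ I) (hJ : J = I ⊔ Ideal.span {g}) :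
    KZero.clSub (finMods A) (ModuleCat.of A (A ⧸ J)) = 0 := by
  subst hJ
  let f : (A ⧸ I) →ₗ[A] (A ⧸ I) := g • LinearMap.id
  let q : (A ⧸ I) →ₗ[A] A ⧸ (I ⊔ Ideal.span {g}) := Submodule.factor le_sup_left
  have hf : Function.Injective f := by
    rw [injective_iff_map_eq_zero]
    intro m hm
    obtain ⟨b, rfl⟩ := Ideal.Quotient.mk_surjective m
    rw [Ideal.Quotient.eq_zero_iff_mem]
    apply hg
    rw [← Ideal.Quotient.eq_zero_iff_mem]
    exact hm
  have hq : Function.Surjective q := by
    intro m
    obtain ⟨b, rfl⟩ := Ideal.Quotient.mk_surjective m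
    exact ⟨Ideal.Quotient.mk I b, rfl⟩
  have hfq : Function.Exact f q := by
    intro m
    obtain ⟨b, rfl⟩ := Ideal.Quotient.mk_surjective m
    constructor
    · intro h
      have hb : b ∈ I ⊔ Ideal.span {g} := (Ideal.Quotient.eq_zero_iff_mem).1 h
      obtain ⟨i, hi, _, hj, rfl⟩ := Submodule.mem_sup.1 hb
      obtain ⟨c, rfl⟩ := Ideal.mem_span_singleton.1 hj
      refine ⟨Ideal.Quotient.mk I c, ?_⟩
      change Ideal.Quotient.mk I (g • c) = _
      rw [Ideal.Quotient.eq, smul_eq_mul]
      simpa using I.neg_mem hi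
    · rintro ⟨c, hc⟩
      obtain ⟨c, rfl⟩ := Ideal.Quotient.mk_surjective c
      rw [← hc]
      change Ideal.Quotient.mk (I ⊔ Ideal.span {g}) (g • c) = 0
      rw [Ideal.Quotient.eq_zero_iff_mem, smul_eq_mul]
      exact Ideal.mem_sup_right (Ideal.mul_mem_right _ _ (Ideal.mem_span_singleton_self g))
  have := clSub_linear f q hf hq hfq
  exact left_eq_add.mp this

end Groth.Agent.K0Cat
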